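import Cfsg.Agent.H6.DCE3
import Cfsg.Agent.Co2.P.Rep
import Cfsg.Agent.Co2.P.C1.Main
import Cfsg.Agent.Co2.P.C2.Main
import Cfsg.Agent.Co2.P.C3.Main
import Cfsg.Agent.Co2.P.C4.Main
import Cfsg.Agent.Co2.P.C5.Main

set_option autoImplicit false
set_option maxRecDepth 100000
set_option Elab.async false

namespace Cfsg.Co2.P

open Cfsg.H6

theorem cover : Cover (gen ev Ws) ⊤ 2300 := hX ▸ C1.cover hev hR

theorem le3 : gen ev C2.Sub ≤ gen ev C3.X :=
  gen_le_of_cyc hev hR (W := [[1], [2], [3], [4], [5], [6], [7], [8], [9], [10], [11], [12], [13], [14], [15], [1,11,12,13,11,12,13,14,13,11,12,13,14], [11,12,13,11,12,13,14,13,11,12,13,14,15,14,13,11,12,13,14,15], [10,11,12,10,13,11,12,10,13,12,14,13,11,12,10,13,12,14,13,11], [1,3,8,9,11,13,11,14,13,11], [2,12,13,11,12,13,14,13,11,12,13], [3,4,6,7,8,9,14,13,11,12,13,14], [1,4,5,7,8,9,13,11,12,13,14,13,11,12,13,14], [3,4,7,8,9], [4,5], [3,4], [4,7], [11,12], [11,14]]) (by decide +kernel)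

theorem ub : UB (⊤ : Subgroup Grp) 42305421312000 :=
  (((((UB.bot.cover (C5.cover hev hR)).cover (C4.cover hev hR)).cover (C3.cover hev hR)).mono le3).cover
    (C2.cover hev hR)).cover cover

def I : List Ivl := [(1, 892, [16]), (892, 2300, [16,15,19,30,15,16])]

theorem act : ∃ φ : Grp →* Equiv.Perm ℕ, IsAct φ ev img 2300 31 := by
  obtain ⟨ψ, hψ⟩ := lift rep.1 rep.2.1
  exact ⟨_, rep.2.2.comp ψ hψ⟩

/-- The permutation representation. -/
noncomputable def φ : Grp →* Equiv.Perm ℕ := act.choose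

theorem hφ : IsAct φ ev img 2300 31 := act.choose_spec

theorem prim : Prim φ ev (gen ev Ws) 2300 I :=
  prim_sound hφ cover (List.forall_mem_cons.mpr ⟨iv0 hφ, (List.forall_mem_cons.mpr ⟨iv1 hφ, (by simp)⟩)⟩) (by decide +kernel)

theorem coatom : IsCoatom (gen ev Ws) :=
  prim.isCoatom hφ hX (C := [[], [0], [0,0,18,17]]) (by decide +kernel)

def lW0 : List (List ℕ) := [[nat_lit 1], [nat_lit 3], [nat_lit 4], [nat_lit 6], [nat_lit 8], [nat_lit 10], [nat_lit 11], [nat_lit 12], [nat_lit 13], [nat_lit 14], [nat_lit 30]]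

theorem l0 : lvlChk img 2300 31 [1,0] (3, lW0, unp 41 (nat_lit 0x27050000290700003b0800009e0a00007607000076020000ba070000ba000000b0040000790a0000790500006f0800006f030000a1060000b7040000b7030001510600015103000151010000a2060000a2030000a2010000700a00007005000070040000700200003c0a00003c0900003c0700003c0500003c0400003c0200003c010000700000002a0300002a0200002a0100002a0000000a0a00000a0700000305)) = true := by
  decide +kernel

def lW1 : List (List ℕ) := [[nat_lit 1], [nat_lit 2], [nat_lit 3], [nat_lit 7], [nat_lit 8], [nat_lit 11], [nat_lit 12], [nat_lit 13], [nat_lit 14], [nat_lit 30]]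

theorem l1 : lvlChk img 2300 31 [3,1,0] (2, lW1, unp 39 (nat_lit 0x170600004e0300004e000000310100005b0800005b0700005b0200005b0100006a0300006a020000380100001a0900001a0400001209000012040000250900002504000025020000250000001b0900001b0800001b0200001b0000000908000022080000220700002204000022020000220000000905000009040000090300000902000009010000090000000409000004070000020900000208)) = true := by
  decide +kernel

def lW2 : List (List ℕ) := [[nat_lit 11], [nat_lit 12], [nat_lit 13]]

theorem l2 : lvlChk img 2300 31 [2,3,1,0] (6, lW2, unp 3 (nat_lit 0x2b0100000d0200000600)) = true := by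
  decide +kernel

def lW3 : List (List ℕ) := [[nat_lit 12], [nat_lit 13]]

theorem l3 : lvlChk img 2300 31 [6,2,3,1,0] (4, lW3, unp 2 (nat_lit 0xc0000000401)) = true := by
  decide +kernel

def lW4 : List (List ℕ) := [[nat_lit 12]]

theorem l4 : lvlChk img 2300 31 [4,6,2,3,1,0] (7, lW4, unp 1 (nat_lit 0x700)) = true := by
  decide +kernel

def lW5 : List (List ℕ) := [[nat_lit 1], [nat_lit 2], [nat_lit 3], [nat_lit 7], [nat_lit 8]]

theorem l5 : lvlChk img 2300 31 [7,4,6,2,3,1,0] (9, lW5, unp 31 (nat_lit 0x2f000000300300004b0100001c0400005b020000380200006a0200003801000039030000390200005b0100001e0400001804000018030000180000001e0200002204000022020000230400002302000023010000220000001b0400001b0300001b0200001b000000090400000903000009020000090100000900)) = true := by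
  decide +kernel

def lW6 : List (List ℕ) := [[nat_lit 26]]

theorem l6 : lvlChk img 2300 31 [9,7,4,6,2,3,1,0] (14, lW6, unp 1 (nat_lit 0xe00)) = true := by
  decide +kernel

def lW7 : List (List ℕ) := [[nat_lit 1, nat_lit 6, nat_lit 26]]

theorem l7 : lvlChk img 2300 31 [14,9,7,4,6,2,3,1,0] (22, lW7, unp 1 (nat_lit 0x1600)) = true := by
  decide +kernel

def lW8 : List (List ℕ) := [[nat_lit 24]]

theorem l8 : lvlChk img 2300 31 [22,14,9,7,4,6,2,3,1,0] (28, lW8, unp 1 (nat_lit 0x1c00)) = true := by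
  decide +kernel

def lW9 : List (List ℕ) := [[nat_lit 25, nat_lit 1]]

theorem l9 : lvlChk img 2300 31 [28,22,14,9,7,4,6,2,3,1,0] (31, lW9, unp 1 (nat_lit 0x1f00)) = true := by
  decide +kernel

theorem finite : Finite Grp := ub.top.1

def bs : List ℕ := [31,28,22,14,9,7,4,6,2,3,1,0]

theorem lb : LBn φ ⊤ 2300 bs 42305421312000 := by
  have := finite
  exact LBn.cast (((((((((((prim.lb2 (e := I.head (by decide)) (List.head_mem _)).stepT hφ l0).stepT hφ l1).stepT hφ l2).stepT hφ l3).stepT hφ l4).stepT hφ l5).stepT hφ l6).stepT hφ l7).stepT hφ l8).stepT hφ l9) (by decide +kernel)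

theorem main : Nat.card Grp = 42305421312000 ∧ fixS φ bs = ⊥ ∧ Oracle ev img 31 bs := by
  have := finite
  exact lb.oracle hφ ub.top.2

theorem normal (N : Subgroup Grp) [N.Normal] (hN : N ≠ ⊥) :
    ∀ t ∈ ([[1], [2], [3], [4], [5], [6], [7], [8], [9], [10], [11], [12], [13], [14], [15], [16], [17], [18], [19], [20], [21], [22], [23], [24], [25], [26], [27], [28], [29], [30]] : List (List ℕ)), evL ev t ∈ N := by
  have := finite
  exact prim.normal_contains hev coatom lb.2 main.2.1 main.2.2 (p := 23) (k := 1) (j := 1) (by norm_num)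
    main.1 (x := [23,25,6,29,25,30,23,18,25,16,10]) (St := [([23,25,6,29,25,30,23,18,25,16,10], [], [3], 11, 2), ([3], [], [30], 5, 2), ([30], [], [9], 3, 2), ([30], [], [4], 5, 2), ([30], [], [5], 5, 2), ([30], [], [7], 5, 2), ([30], [], [8], 5, 2), ([23,25,6,29,25,30,23,18,25,16,10], [], [20], 11, 2), ([23,25,6,29,25,30,23,18,25,16,10], [], [26], 11, 2), ([23,25,6,29,25,30,23,18,25,16,10], [], [28], 11, 2), ([23,25,6,29,25,30,23,18,25,16,10], [], [1], 15, 2), ([23,25,6,29,25,30,23,18,25,16,10], [], [2], 15, 2), ([23,25,6,29,25,30,23,18,25,16,10], [], [17], 23, 2), ([23,25,6,29,25,30,23,18,25,16,10], [], [19], 23, 2), ([19], [], [18], 3, 2), ([23,25,6,29,25,30,23,18,25,16,10], [], [23], 23, 2), ([23,25,6,29,25,30,23,18,25,16,10], [], [24], 23, 2), ([20], [15], [21], 5, 2), ([28], [10], [22], 5, 2), ([20], [15], [29], 5, 2), ([23,25,6,29,25,30,23,18,25,16,10], [2], [6], 11, 2), ([23,25,6,29,25,30,23,18,25,16,10], [27], [11], 11, 2), ([11], [], [13], 3, 2), ([13], [], [12], 3, 2), ([12],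 [], [10], 3, 2), ([13], [], [14], 3, 2), ([14], [], [15], 3, 2), ([15], [], [16], 3, 2), ([23,25,6,29,25,30,23,18,25,16,10], [10], [25], 11, 2), ([23,25,6,29,25,30,23,18,25,16,10], [14], [27], 11, 2)]) (by decide +kernel) N hN

theorem simple : IsSimpleGroup Grp := by
  have := prim.nontrivial
  exact isSimple_of_contains hX normal

end Cfsg.Co2.P
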