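import Cfsg.Agent.H6.PG

set_option autoImplicit false
set_option maxRecDepth 100000
set_option Elab.async false

namespace Cfsg.Co2.P

open Cfsg.H6

def R : List (List ℕ) := [[1,2,1,2], [2,3,2,3], [2,4,2,4], [2,5,2,5], [2,6,2,6,1], [2,7,2,7], [2,8,2,8], [2,9,2,9], [1,3,1,3], [3,4,3,4], [3,5,3,5], [3,6,3,6], [3,7,3,7,1], [3,8,3,8], [3,9,3,9], [1,4,1,4], [4,5,4,5], [4,6,4,6], [4,7,4,7], [4,8,4,8,1], [4,9,4,9], [1,5,1,5], [5,6,5,6], [5,7,5,7], [5,8,5,8], [5,9,5,9,1], [1,6,1,6], [6,7,6,7], [6,8,6,8], [6,9,6,9], [1,7,1,7], [7,8,7,8], [7,9,7,9], [1,8,1,8], [8,9,8,9], [1,9,1,9], [1,10,1,10], [10,11,10,11], [10,12,10,12,10,12], [10,13,10,13], [10,14,10,14], [10,15,10,15], [10,16,10,16], [10,2,10,2], [10,3,10,5,3], [10,4,10,4,2,1], [10,5,10,5], [10,6,10,8,6,5], [10,7,10,7], [10,8,10,8], [10,9,10,9,7,2], [1,11,1,11], [11,12,11,12], [11,13,11,13,11,13], [11,14,11,14], [11,15,11,15], [11,16,11,16], [11,2,11,2], [11,3,11,5,4,3,2,1],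 [11,4,11,4,2,1], [11,5,11,5,2,1], [11,6,11,9,8,7,6,5,4], [11,7,11,7], [11,8,11,8,7,2], [11,9,11,9,7,2], [1,12,1,12], [12,13,12,13,12,13], [12,14,12,14], [12,15,12,15], [12,16,12,16], [12,2,12,5,4,2], [12,3,12,4,2,1], [12,4,12,5,4,3,2,1], [12,5,12,3,2,1], [12,6,12,9,8,7,6,5,4], [12,7,12,9,8,5,4], [12,8,12,8,7,6,5,3,2], [12,9,12,8,6,4,3,2,1], [1,13,1,13], [13,14,13,14,13,14], [13,15,13,15], [13,16,13,16], [13,2,13,7,5,2], [13,3,13,8,6,5,3,1], [13,4,13,9,7,5,3], [13,5,13,8], [13,6,13,6], [13,7,13,8,7,5], [13,8,13,5], [13,9,13,8,7,6,4,3,1], [1,14,1,14], [14,15,14,15,14,15], [14,16,14,16], [14,2,14,2], [14,3,14,3], [14,4,14,4], [14,5,14,5], [14,6,14,6,5,3,1], [14,7,14,7,2,1], [14,8,14,8,5], [14,9,14,9,4,2], [1,15,1,15], [15,16,15,16,15,16], [15,2,15,7], [15,3,15,8,6,4,2], [15,4,15,9,7,4,2,1], [15,5,15,8,5,2], [15,6,15,9,8,7,4,3,1], [15,7,15,2], [15,8,15,8,7,2], [15,9,15,9], [1,16,1,16], [16,2,16,2], [16,3,16,5,4,3,2,1],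 [16,4,16,4,2,1], [16,5,16,5,2,1], [16,6,16,9,8,7,6,4,3], [16,7,16,7,2,1], [16,8,16,8,7,5,2,1], [16,9,16,9,7,4,1], [10,11,12,13,14,15,16,10,11,12,13,14,15,16,10,11,12,13,14,15,16,10,11,12,13,14,15,16,10,11,12,13,14,15,16,10,11,12,13,14,15,16,10,11,12,13,14,15,16,10,11,12,13,14,15,16,10,11,12,13,14,15,16], [17,14,13,12,11,13,14,13,12,11,13,12,11,1], [18,15,14,13,12,11,13,14,15,14,13,12,11,13,14,13,12,11,13,12,11], [19,11,13,14,12,13,10,12,11,13,14,12,13,10,12,11,13,10,12,11,10], [20,11,13,14,11,13,11,9,8,3,1], [21,13,12,11,13,14,13,12,11,13,12,2], [22,14,13,12,11,13,14,9,8,7,6,4,3], [23,14,13,12,11,13,14,13,12,11,13,9,8,7,5,4,1], [24,9,8,7,4,3], [25,5,4], [26,4,3], [27,7,4], [28,12,11], [29,14,11], [30,1,30,1,24,17], [30,2,30,2,21,20,24], [30,6,30,6,22], [30,24,30,24], [30,25,30,25,17], [30,26,30,26,23,22,24], [30,27,30,27,20,25,17], [30,16,30,16,20,25], [30,17,30,17], [30,18,30,18,24,17], [30,19,30,19,24,17],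 [30,20,30,20,17], [30,21,30,21,17], [30,22,30,22], [30,23,30,23], [30,28,30,28,23,22,24,17], [30,29,30,29,21,20], [30,13,30,13], [30,13,10,30,13,10,30,13,10], [30,13,26,10,30,13,26,10,30,13,26,10,30,13,26,10,30,13,26,10,30,13,26,10,30,13,26,10,30,13,26,10,30,13,26,10,30,13,26,10,30,13,26,10,30,13,26,10,30,13,26,10,30,13,26,10]]

def X : List (List ℕ) := [[1], [2], [3], [4], [5], [6], [7], [8], [9], [10], [11], [12], [13], [14], [15], [16], [17], [18], [19], [20], [21], [22], [23], [24], [25], [26], [27], [28], [29], [30]]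

/-- The presented group. -/
abbrev Grp : Type := PG 53206320320083115796502214552783413060461247639578808291150702859268522240 R

def ev : ℕ → Grp := pgEv 53206320320083115796502214552783413060461247639578808291150702859268522240 R

theorem hev : Good ev 53206320320083115796502214552783413060461247639578808291150702859268522240 := pg_good _ _

theorem hR : Rels ev R := pg_rels _ _

theorem hX : gen ev X = ⊤ := pg_gen (m := 31) (by decide +kernel)

theorem lift {G : Type*} [Group G] {ev' : ℕ → G} (h : Good ev' 53206320320083115796502214552783413060461247639578808291150702859268522240) (h' : Rels ev' R) :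
    ∃ φ : Grp →* G, ∀ l, φ (ev l) = ev' l := pg_lift h h'

end Cfsg.Co2.P
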